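import Cfsg.Agent.Lib.WeakClosureJ1.Odd
import Cfsg.Agent.Lib.JankoOne.Out
import Cfsg.Agent.Lib.J1Order.Setup
import Cfsg.Agent.Lib.Signalizer.CoprimeGeneration
import Cfsg.Agent.S0215
import Cfsg.Agent.S0224
import Cfsg.Agent.S1225

/-!
A subgroup isomorphic to the first Janko group whose involutions move every conjugate of it other
than itself is normal.
-/

set_option autoImplicit false
set_option linter.style.haveILetI false
set_option linter.unusedSectionVars false

open Cfsg
open scoped Pointwise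

namespace CfsgLib.WeakClosureJ1

open CfsgLib.SporadicB.J1Cert

universe u

theorem sq_of_orderOf {G : Type*} [Group G] {x : G} (hx : orderOf x = 2) : x * x = 1 := by
  rw [← pow_two, ← hx, pow_orderOf_eq_one]

theorem orderOf_two {G : Type*} [Group G] {x : G} (hx : x * x = 1) (h1 : x ≠ 1) : orderOf x = 2 :=
  orderOf_eq_prime (by rw [pow_two]; exact hx) h1

theorem orderOf_conj {G : Type*} [Group G] (g x : G) : orderOf (g * x * g⁻¹) = orderOf x :=
  orderOf_injective (MulAut.conj g).toMonoidHom (MulAut.conj g).injective x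

theorem ne_one_of_orderOf {G : Type*} [Group G] {x : G} (hx : orderOf x = 2) : x ≠ 1 := fun e => by
  simp [e] at hx

theorem mem_normalizer_of_conj {G : Type*} [Group G] [Finite G] {H : Subgroup G} {g : G}
    (h : ∀ x ∈ H, g * x * g⁻¹ ∈ H) : g ∈ Subgroup.normalizer (H : Set G) := by
  have e : H.map (MulAut.conj g).toMonoidHom = H :=
    Subgroup.eq_of_le_of_card_ge (by rintro _ ⟨x, hx, rfl⟩; exact h x hx)
      (Subgroup.card_map_of_injective (MulAut.conj g).injective).ge
  refine Subgroup.mem_normalizer_iff.2 fun x => ⟨h x, fun hx => ?_⟩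
  rw [← e] at hx
  obtain ⟨y, hy, hyx⟩ := hx
  exact (MulAut.conj g).injective hyx ▸ hy

/-- A normaliser element commutes past the subgroup. -/
theorem conj_mem_of_normalizer {G : Type*} [Group G] {H : Subgroup G} {g x : G}
    (hg : g ∈ Subgroup.normalizer (H : Set G)) (hx : x ∈ H) : g * x * g⁻¹ ∈ H :=
  (Subgroup.mem_normalizer_iff.1 hg x).1 hx

theorem other_inE : ∀ k : CfsgLib.J1Order.K5,
    ∃ l : CfsgLib.J1Order.K5, CfsgLib.J1Order.inE l ∧ l ≠ 1 ∧ l ≠ k := fun k => by
  have h : CfsgLib.J1Order.inE CfsgLib.J1Order.zK ∧ CfsgLib.J1Order.inE (1, CfsgLib.J1Order.uu) ∧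
      CfsgLib.J1Order.zK ≠ 1 ∧ ((1, CfsgLib.J1Order.uu) : CfsgLib.J1Order.K5) ≠ 1 ∧
      ((1, CfsgLib.J1Order.uu) : CfsgLib.J1Order.K5) ≠ CfsgLib.J1Order.zK := by decide +kernel
  obtain ⟨h1, h2, h3, h4, h5⟩ := h
  by_cases e : k = CfsgLib.J1Order.zK
  · exact ⟨_, h2, h4, e ▸ h5⟩
  · exact ⟨_, h1, h3, fun e' => e e'.symm⟩

section iso

variable {G : Type*} [Group G] (hM : Cfsg.Spor.IsoJ1 G)
include hM

theorem isSimple : IsSimpleGroup G := by
  obtain ⟨e⟩ := hM
  haveI := isJ1.1
  exact e.isSimpleGroup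

theorem not_comm : ∃ a b : G, a * b ≠ b * a := by
  obtain ⟨e⟩ := hM
  by_contra! h
  obtain ⟨t, ht, ⟨f⟩⟩ := CfsgLib.JankoOne.exists_involution_centralizer
  haveI : Finite J := Nat.finite_of_card_ne_zero (by rw [card_J]; norm_num)
  have hc : Subgroup.centralizer ({t} : Set J) = ⊤ :=
    eq_top_iff.2 fun x _ => Subgroup.mem_centralizer_singleton_iff.2 (e.symm.injective (by
      simp only [map_mul]; exact h _ _))
  have := Nat.card_congr f.toEquiv
  rw [hc, Subgroup.card_top, card_J, Nat.card_prod, Nat.card_eq_fintype_card,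
    Nat.card_eq_fintype_card] at this
  revert this
  decide +kernel

theorem center_eq_bot : Subgroup.center G = ⊥ := by
  haveI := isSimple hM
  rcases (inferInstance : (Subgroup.center G).Normal).eq_bot_or_eq_top with h | h
  · exact h
  · obtain ⟨a, b, hab⟩ := not_comm hM
    exact absurd (Subgroup.mem_center_iff.1 (h ▸ Subgroup.mem_top b : b ∈ Subgroup.center G) a) hab

theorem squares_generate : Subgroup.closure {x : G | ∃ y, x = y * y} = ⊤ := by
  haveI := isSimple hM
  haveI : (Subgroup.closure {x : G | ∃ y, x = y * y}).Normal := by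
    constructor
    intro x hx g
    induction hx using Subgroup.closure_induction with
    | mem x hx =>
      obtain ⟨y, rfl⟩ := hx
      exact Subgroup.subset_closure ⟨g * y * g⁻¹, by group⟩
    | one => simp
    | mul a b _ _ ha hb => exact (show g * (a * b) * g⁻¹ = (g * a * g⁻¹) * (g * b * g⁻¹) by group) ▸ mul_mem ha hb
    | inv a _ ha => exact (show g * a⁻¹ * g⁻¹ = (g * a * g⁻¹)⁻¹ by group) ▸ inv_mem ha
  rcases (inferInstance : (Subgroup.closure {x : G | ∃ y, x = y * y}).Normal).eq_bot_or_eq_top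
    with h | h
  · obtain ⟨a, b, hab⟩ := not_comm hM
    refine absurd ?_ hab
    have hs : ∀ y : G, y * y = 1 := fun y =>
      Subgroup.mem_bot.1 (h ▸ Subgroup.subset_closure ⟨y, rfl⟩)
    calc a * b = a * b * ((b * a) * (b * a)) := by rw [hs, mul_one]
      _ = a * (b * b) * a * (b * a) := by group
      _ = b * a := by rw [hs b, mul_one, hs a, one_mul]
  · exact h

theorem eq_conj (φ : MulAut G) : ∃ m : G, ∀ x, φ x = m * x * m⁻¹ := by
  obtain ⟨e⟩ := hM
  have h := CfsgLib.JankoOne.natCard_out_J1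
  rw [Cfsg.Out, ← Subgroup.index_eq_card, Subgroup.index_eq_one] at h
  obtain ⟨j, hj⟩ : (e.symm.trans φ).trans e ∈ Cfsg.Inn J := h ▸ Subgroup.mem_top _
  refine ⟨e.symm j, fun x => e.injective ?_⟩
  have := (DFunLike.congr_fun hj (e x)).symm
  simpa using this

theorem exists_second [Finite G] {x : G} (hx : orderOf x = 2) :
    ∃ y : G, orderOf y = 2 ∧ y ≠ x ∧ x * y = y * x := by
  classical
  obtain ⟨e⟩ := hM
  haveI : Fact (Nat.Prime 2) := ⟨Nat.prime_two⟩
  haveI : Finite J := Nat.finite_of_card_ne_zero (by rw [card_J]; norm_num)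
  obtain ⟨t, ht, ⟨f⟩⟩ := CfsgLib.JankoOne.exists_involution_centralizer
  let φ : CfsgLib.J1Order.K5 →* G := (e.symm.toMonoidHom.comp (Subgroup.subtype _)).comp f.symm.toMonoidHom
  have hφ : Function.Injective φ :=
    (e.symm.injective.comp Subtype.val_injective).comp f.symm.injective
  have hfac : (Nat.card G).factorization 2 = 3 := by
    rw [Nat.card_congr e.toEquiv, card_J]
    have h1 := (Nat.Prime.pow_dvd_iff_le_factorization (p := 2) Nat.prime_two (n := 175560)
      (by norm_num) (k := 3)).1 (by norm_num)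
    have h2 := (Nat.Prime.pow_dvd_iff_le_factorization (p := 2) Nat.prime_two (n := 175560)
      (by norm_num) (k := 4)).not.1 (by norm_num)
    omega
  have hcard : Nat.card (CfsgLib.J1Order.subE.map φ) = 8 := by
    rw [← CfsgLib.J1Order.card_subE]
    exact Subgroup.card_map_of_injective hφ
  let P : Sylow 2 G := Sylow.ofCard (CfsgLib.J1Order.subE.map φ) (by rw [hcard, hfac]; rfl)
  obtain ⟨Q, hQ⟩ := (IsPGroup.of_card (p := 2) (n := 1)
    (by rw [Nat.card_zpowers, hx, pow_one]) : IsPGroup 2 (Subgroup.zpowers x)).exists_le_sylow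
  obtain ⟨g, hg⟩ := MulAction.exists_smul_eq G P Q
  have hmem : ∀ q ∈ (Q : Subgroup G), ∃ k, CfsgLib.J1Order.inE k ∧ g * φ k * g⁻¹ = q := by
    intro q hq
    rw [← hg, Sylow.coe_subgroup_smul, Sylow.coe_ofCard] at hq
    obtain ⟨_, ⟨k, hk, rfl⟩, rfl⟩ := hq
    exact ⟨k, hk, rfl⟩
  obtain ⟨k, hk, rfl⟩ := hmem x (hQ (Subgroup.mem_zpowers x))
  obtain ⟨l, hl, hl1, hlk⟩ := other_inE k
  refine ⟨g * φ l * g⁻¹, (orderOf_conj _ _).trans ((orderOf_injective φ hφ l).trans
    (orderOf_two (CfsgLib.J1Order.sq_inE _ hl) hl1)), fun e' => hlk (hφ (by simpa using e')), ?_⟩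
  have hc : k * l = l * k := by
    have e1 := CfsgLib.J1Order.sq_inE _ hk
    have e2 := CfsgLib.J1Order.sq_inE _ hl
    have e3 := CfsgLib.J1Order.sq_inE _ (CfsgLib.J1Order.inE_mul _ _ hk hl)
    rw [← inv_eq_of_mul_eq_one_right e3, mul_inv_rev, inv_eq_of_mul_eq_one_right e1,
      inv_eq_of_mul_eq_one_right e2]
  calc g * φ k * g⁻¹ * (g * φ l * g⁻¹) = g * φ (k * l) * g⁻¹ := by rw [map_mul]; group
    _ = g * φ l * g⁻¹ * (g * φ k * g⁻¹) := by rw [hc, map_mul]; group

end iso

/-- An involution commuting with no other conjugate is isolated in a Sylow subgroup containing it. -/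
theorem isolated_in_sylow {L : Type*} [Group L] [Finite L] {k : L}
    (h : ∀ g : L, (g * k * g⁻¹) * k = k * (g * k * g⁻¹) → g * k * g⁻¹ = k) (P : Sylow 2 L) (hk : k ∈ P) :
    ∀ g : L, g * k * g⁻¹ ∈ P → g * k * g⁻¹ = k := by
  haveI : Fact (Nat.Prime 2) := ⟨Nat.prime_two⟩
  set K : Subgroup ↥(P : Subgroup L) := Subgroup.centralizer {(⟨k, hk⟩ : ↥(P : Subgroup L))} with hK
  have htop : K = ⊤ := by
    by_contra hne
    haveI : Group.IsNilpotent ↥(P : Subgroup L) := P.isPGroup'.isNilpotent
    have hlt := Group.normalizerCondition_of_isNilpotent K (lt_top_iff_ne_top.2 hne)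
    obtain ⟨g, hg, hgK⟩ := SetLike.exists_of_lt hlt
    refine hgK (Subgroup.mem_centralizer_singleton_iff.2 ?_)
    have h1 := conj_mem_of_normalizer hg
      (Subgroup.mem_centralizer_singleton_iff.2 rfl : (⟨k, hk⟩ : ↥(P : Subgroup L)) ∈ K)
    have e := h (g : L) (congrArg Subtype.val (Subgroup.mem_centralizer_singleton_iff.1 h1))
    exact Subtype.ext (mul_inv_eq_iff_eq_mul.1 e)
  intro g hg
  refine h g ?_
  have h1 : (⟨g * k * g⁻¹, hg⟩ : ↥(P : Subgroup L)) ∈ K := by rw [htop]; exact Subgroup.mem_top _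
  exact congrArg Subtype.val (Subgroup.mem_centralizer_singleton_iff.1 h1)

variable {G : Type u} [Group G] [Finite G] {M : Subgroup G} (hM : Cfsg.Spor.IsoJ1 M)
  (hA : ∀ x ∈ M, orderOf x = 2 → ∀ g : G,
    g * x * g⁻¹ ∈ Subgroup.normalizer (M : Set G) → g ∈ Subgroup.normalizer (M : Set G))

include hM in
theorem decomp {s : G} (hs : s ∈ Subgroup.normalizer (M : Set G)) :
    ∃ m ∈ M, ∃ z ∈ Subgroup.centralizer (M : Set G), s = m * z := by
  let φ : MulAut M :=
    { toFun := fun x => ⟨s * x * s⁻¹, conj_mem_of_normalizer hs x.2⟩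
      invFun := fun x => ⟨s⁻¹ * x * s⁻¹⁻¹, conj_mem_of_normalizer (inv_mem hs) x.2⟩
      left_inv := fun x => Subtype.ext (by simp [mul_assoc])
      right_inv := fun x => Subtype.ext (by simp [mul_assoc])
      map_mul' := fun x y => Subtype.ext (by simp [mul_assoc]) }
  obtain ⟨m, hm⟩ := eq_conj hM φ
  refine ⟨m, m.2, (m : G)⁻¹ * s, Subgroup.mem_centralizer_iff.2 fun x hx => ?_, by group⟩
  have e : s * x * s⁻¹ = (m : G) * x * (m : G)⁻¹ := congrArg Subtype.val (hm ⟨x, hx⟩)
  calc x * ((m : G)⁻¹ * s) = (m : G)⁻¹ * ((m : G) * x * (m : G)⁻¹) * s := by group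
    _ = (m : G)⁻¹ * s * x := by rw [← e]; group

include hM in
theorem eq_one_of_mem_centralizer {x : G} (hx : x ∈ M)
    (hc : x ∈ Subgroup.centralizer (M : Set G)) : x = 1 := by
  have : (⟨x, hx⟩ : M) ∈ Subgroup.center M :=
    Subgroup.mem_center_iff.2 fun y => Subtype.ext (Subgroup.mem_centralizer_iff.1 hc y y.2)
  rw [center_eq_bot hM, Subgroup.mem_bot] at this
  exact congrArg Subtype.val this

include hM in
theorem decomp_unique {m m' z z' : G} (hm : m ∈ M) (hm' : m' ∈ M)
    (hz : z ∈ Subgroup.centralizer (M : Set G)) (hz' : z' ∈ Subgroup.centralizer (M : Set G))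
    (e : m * z = m' * z') : m = m' := by
  have h1 : m'⁻¹ * m = z' * z⁻¹ := by
    calc m'⁻¹ * m = m'⁻¹ * (m * z) * z⁻¹ := by group
      _ = z' * z⁻¹ := by rw [e]; group
  exact (eq_of_mul_inv_eq_one (by
    have := eq_one_of_mem_centralizer hM (mul_mem (inv_mem hm') hm) (h1 ▸ mul_mem hz' (inv_mem hz))
    rw [inv_mul_eq_one.1 this]; group))

include hA in
theorem centralizer_le {x : G} (hx : x ∈ M) (hx2 : orderOf x = 2) :
    Subgroup.centralizer ({x} : Set G) ≤ Subgroup.normalizer (M : Set G) := fun g hg => by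
  refine hA x hx hx2 g ?_
  rw [Subgroup.mem_centralizer_singleton_iff.1 hg, mul_inv_cancel_right]
  exact Subgroup.le_normalizer hx

include hM hA in
/-- The centraliser of a mixed involution lies in the normaliser. -/
theorem centralizer_mixed_le {m z : G} (hm : m ∈ M) (hm2 : orderOf m = 2)
    (hz : z ∈ Subgroup.centralizer (M : Set G)) :
    Subgroup.centralizer ({m * z} : Set G) ≤ Subgroup.normalizer (M : Set G) := by
  classical
  haveI : Fact (Nat.Prime 2) := ⟨Nat.prime_two⟩
  set N := Subgroup.normalizer (M : Set G) with hN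
  set L := Subgroup.centralizer ({m * z} : Set G) with hL
  have hzc : ∀ y ∈ M, y * z = z * y := fun y hy => Subgroup.mem_centralizer_iff.1 hz y hy
  have hmL : ∀ y ∈ M, y * m = m * y → y ∈ L := fun y hy hym =>
    Subgroup.mem_centralizer_singleton_iff.2 (by
      rw [← mul_assoc, hym, mul_assoc, hzc y hy, ← mul_assoc])
  let k : L := ⟨m, hmL m hm rfl⟩
  have hiso : ∀ g : L, (g * k * g⁻¹) * k = k * (g * k * g⁻¹) → g * k * g⁻¹ = k := by
    intro g hg
    have h1 : (g : G) * m * (g : G)⁻¹ ∈ Subgroup.centralizer ({m} : Set G) :=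
      Subgroup.mem_centralizer_singleton_iff.2 (congrArg Subtype.val hg)
    have hgN : (g : G) ∈ N := hA m hm hm2 _ (centralizer_le hA hm hm2 h1)
    obtain ⟨a, ha, c, hc, e⟩ := decomp hM hgN
    have hfix : (g : G) * (m * z) * (g : G)⁻¹ = m * z := by
      rw [Subgroup.mem_centralizer_singleton_iff.1 g.2, mul_inv_cancel_right]
    have hca : ∀ y ∈ M, c * y * c⁻¹ = y := fun y hy => by
      rw [← Subgroup.mem_centralizer_iff.1 hc y hy, mul_inv_cancel_right]
    have hz' : a * c * z * (a * c)⁻¹ ∈ Subgroup.centralizer (M : Set G) := by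
      have hcz : c * z * c⁻¹ ∈ Subgroup.centralizer (M : Set G) := mul_mem (mul_mem hc hz) (inv_mem hc)
      refine Subgroup.mem_centralizer_iff.2 fun y hy => ?_
      have e1 := Subgroup.mem_centralizer_iff.1 hcz (a⁻¹ * y * a) (mul_mem (mul_mem (inv_mem ha) hy) ha)
      calc y * (a * c * z * (a * c)⁻¹) = a * ((a⁻¹ * y * a) * (c * z * c⁻¹)) * a⁻¹ := by group
        _ = a * c * z * (a * c)⁻¹ * y := by rw [e1]; group
    have hm' : a * c * m * (a * c)⁻¹ = a * m * a⁻¹ := by
      rw [show a * c * m * (a * c)⁻¹ = a * (c * m * c⁻¹) * a⁻¹ by group, hca m hm]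
    have := decomp_unique hM (mul_mem (mul_mem ha hm) (inv_mem ha)) hm hz' hz (by
      rw [← hm', ← hfix, e]; group)
    exact Subtype.ext (by show (g : G) * m * (g : G)⁻¹ = m; rw [e, hm', this])
  have hk2 : orderOf k = 2 := by rw [← Subgroup.orderOf_coe]; exact hm2
  obtain ⟨P, hP⟩ := (IsPGroup.of_card (p := 2) (n := 1)
    (by rw [Nat.card_zpowers, hk2, pow_one]) : IsPGroup 2 (Subgroup.zpowers k)).exists_le_sylow
  obtain ⟨O, hOn, hOodd, hO⟩ := Cfsg.Agent.S0215.result P k hk2 (hP (Subgroup.mem_zpowers k))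
    (isolated_in_sylow hiso P (hP (Subgroup.mem_zpowers k)))
  -- the odd normal subgroup lies in the normaliser
  obtain ⟨y, hy2, hym, hmy⟩ := exists_second hM (x := (⟨m, hm⟩ : M)) (by rw [← Subgroup.orderOf_coe]; exact hm2)
  have hy2' : orderOf (y : G) = 2 := by rw [Subgroup.orderOf_coe]; exact hy2
  have hym' : (y : G) ≠ m := fun e => hym (Subtype.ext e)
  have hmy' : m * (y : G) = (y : G) * m := congrArg Subtype.val hmy
  have hmm := sq_of_orderOf hm2
  have hyy := sq_of_orderOf hy2'
  have hc1 : (y : G) * m = m * y := hmy'.symm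
  have hc2 : ∀ w : G, (y : G) * (m * w) = m * (y * w) := fun w => by
    rw [← mul_assoc, hc1, mul_assoc]
  have hc3 : ∀ w : G, m * (m * w) = w := fun w => by rw [← mul_assoc, hmm, one_mul]
  have hc4 : ∀ w : G, (y : G) * (y * w) = w := fun w => by rw [← mul_assoc, hyy, one_mul]
  let A : Subgroup G :=
    { carrier := {x | x = 1 ∨ x = m ∨ x = (y : G) ∨ x = m * y}
      one_mem' := Or.inl rfl
      mul_mem' := by
        rintro a b (ha | ha | ha | ha) (hb | hb | hb | hb) <;> rw [ha, hb] <;>
          simp [mul_assoc, hmm, hyy, hc1, hc2, hc3, hc4]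
      inv_mem' := by
        rintro a (ha | ha | ha | ha) <;> rw [ha] <;>
          simp [inv_eq_of_mul_eq_one_right hmm, inv_eq_of_mul_eq_one_right hyy, hc1] }
  have hA2 : IsPGroup 2 A := fun a => ⟨1, Subtype.ext (by
    show (a : G) ^ (2 ^ 1) = 1
    rw [pow_one, pow_two]
    rcases a.2 with e | e | e | e <;> rw [e] <;>
      simp [mul_assoc, hmm, hyy, hc1, hc2, hc3, hc4])⟩
  have hAc : IsMulCommutative A := ⟨⟨fun a b => Subtype.ext (by
    show (a : G) * b = b * a
    rcases a.2 with e | e | e | e <;> rcases b.2 with e' | e' | e' | e' <;> rw [e, e'] <;>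
      simp [mul_assoc, hmm, hyy, hc1, hc2, hc3, hc4])⟩⟩
  set R := O.map L.subtype with hR
  have hyL : (y : G) ∈ L := hmL y y.2 hmy'.symm
  have hAL : A ≤ L := by
    rintro x (rfl | rfl | rfl | rfl)
    exacts [one_mem _, k.2, hyL, mul_mem k.2 hyL]
  have hAR : A ≤ Subgroup.normalizer (R : Set G) := fun a ha => mem_normalizer_of_conj (by
    rintro _ ⟨x, hx, rfl⟩
    exact ⟨_, hOn.conj_mem x hx ⟨a, hAL ha⟩, rfl⟩)
  have hRodd : Odd (Nat.card R) := by
    rw [hR, Subgroup.card_map_of_injective L.subtype_injective]; exact hOodd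
  have hmy2 : orderOf (m * (y : G)) = 2 := orderOf_two
    (by rw [mul_assoc, ← mul_assoc (y : G), ← hmy', mul_assoc m (y : G), hyy, mul_one, hmm])
    (fun e => hym' (by rw [← inv_eq_of_mul_eq_one_right e, inv_eq_of_mul_eq_one_right hmm]))
  have hRN : R ≤ N := CfsgLib.Signalizer.CoprimeGen.le_of_three_centralizers
    (Cfsg.Agent.S0205.result hRodd) hRodd hA2 hAc hAR
    (x := m) (y := (y : G)) (Or.inr (Or.inl rfl)) (Or.inr (Or.inr (Or.inl rfl)))
    (fun r _ => by rw [pow_two, hmm, one_mul, mul_one])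
    (fun r _ => by rw [pow_two, hyy, one_mul, mul_one]) (by
      intro w hw
      simp only [Set.mem_insert_iff, Set.mem_singleton_iff] at hw
      refine inf_le_right.trans ?_
      rcases hw with rfl | rfl | rfl
      · exact centralizer_le hA hm hm2
      · exact centralizer_le hA y.2 hy2'
      · exact centralizer_le hA (mul_mem hm y.2) hmy2)
  intro g hg
  refine hA m hm hm2 g ?_
  have h1 : m * g * m⁻¹ * g⁻¹ ∈ R := ⟨_, hO ⟨g, hg⟩, rfl⟩
  rw [show g * m * g⁻¹ = m * (m * g * m⁻¹ * g⁻¹) by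
    rw [inv_eq_of_mul_eq_one_right hmm, ← mul_assoc, ← mul_assoc, ← mul_assoc, hmm, one_mul]]
  exact mul_mem (Subgroup.le_normalizer hm) (hRN h1)

/-- The main theorem. -/
theorem normal_of_fixed {G : Type u} [Group G] [Finite G] (M : Subgroup G)
    (hM : Cfsg.Spor.IsoJ1 M)
    (hA : ∀ x ∈ M, orderOf x = 2 → ∀ g : G,
      g * x * g⁻¹ ∈ Subgroup.normalizer (M : Set G) → g ∈ Subgroup.normalizer (M : Set G)) :
    M.Normal := by
  classical
  induction hn : Nat.card G using Nat.strong_induction_on generalizing G with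
  | _ n ih =>
  subst hn
  haveI : Fact (Nat.Prime 2) := ⟨Nat.prime_two⟩
  obtain ⟨e⟩ := hM
  have hM : Cfsg.Spor.IsoJ1 M := ⟨e⟩
  set N := Subgroup.normalizer (M : Set G) with hN
  by_contra hnn
  have hNtop : N ≠ ⊤ := fun h => hnn (Subgroup.normalizer_eq_top_iff.1 h)
  have hMN : M ≤ N := Subgroup.le_normalizer
  -- proper subgroups
  have hsub : ∀ L : Subgroup G, M ≤ L → L ≠ ⊤ → L ≤ N := by
    intro L hML hL
    have hlt : Nat.card L < Nat.card G := by
      rcases (Subgroup.card_le_card_group L).lt_or_eq with h | h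
      · exact h
      · exact absurd ((Subgroup.card_eq_iff_eq_top _).1 h) hL
    refine (Subgroup.normal_subgroupOf_iff_le_normalizer hML).1 (ih _ hlt (M.subgroupOf L)
      ⟨(Subgroup.subgroupOfEquivOfLe hML).trans e⟩ ?_ rfl)
    intro x hx hx2 g hg
    have h1 : (g : G) ∈ N := hA x hx (by rw [Subgroup.orderOf_coe]; exact hx2) g
      (mem_normalizer_of_conj fun y hy => Subgroup.mem_subgroupOf.1 (conj_mem_of_normalizer hg
        (show (⟨y, hML hy⟩ : L) ∈ M.subgroupOf L from hy)))
    exact mem_normalizer_of_conj fun y hy =>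
      Subgroup.mem_subgroupOf.2 (conj_mem_of_normalizer h1 (Subgroup.mem_subgroupOf.1 hy))
  -- central involutions
  have hcen : ∀ z ∈ Subgroup.centralizer (M : Set G), orderOf z = 2 → z ∉ Subgroup.center G := by
    intro z hzM hz2 hz
    haveI : (Subgroup.zpowers z).Normal := ⟨fun x hx g => by
      have : x ∈ Subgroup.center G := Subgroup.zpowers_le.2 hz hx
      rwa [Subgroup.mem_center_iff.1 this g, mul_inv_cancel_right]⟩
    set q := QuotientGroup.mk' (Subgroup.zpowers z)
    have hker : ∀ x, q x = 1 → x = 1 ∨ x = z := by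
      intro x hx
      rw [QuotientGroup.mk'_apply, QuotientGroup.eq_one_iff] at hx
      obtain ⟨i, hi⟩ := Subgroup.mem_zpowers_iff.1 hx
      rw [← zpow_mod_orderOf, hz2] at hi
      rcases Int.emod_two_eq i with e | e
      · left; rw [← hi, show i % ((2 : ℕ) : ℤ) = 0 from e, zpow_zero]
      · right; rw [← hi, show i % ((2 : ℕ) : ℤ) = 1 from e, zpow_one]
    have hinj : Function.Injective (q.comp M.subtype) := by
      rw [injective_iff_map_eq_one]
      intro x hx
      rcases hker x hx with e' | e'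
      · exact Subtype.ext e'
      · exact absurd (eq_one_of_mem_centralizer hM (e' ▸ x.2) hzM) (ne_one_of_orderOf hz2)
    have hrange : (q.comp M.subtype).range = M.map q := by
      rw [MonoidHom.range_comp, Subgroup.range_subtype]
    have hlift : ∀ y : G, q y ∈ Subgroup.normalizer (M.map q : Set (G ⧸ Subgroup.zpowers z)) → y ∈ N := by
      intro y hy
      have hsq : ∀ x ∈ M, y * (x * x) * y⁻¹ ∈ M := by
        intro x hx
        obtain ⟨x', hx', hxe⟩ := conj_mem_of_normalizer hy (Subgroup.mem_map_of_mem q hx)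
        have hmem : y * x * y⁻¹ = x' ∨ y * x * y⁻¹ = x' * z := by
          rcases hker (x'⁻¹ * (y * x * y⁻¹)) (by
            rw [map_mul, map_inv, map_mul, map_mul, map_inv, hxe, inv_mul_cancel]) with e' | e'
          · exact Or.inl (inv_mul_eq_one.1 e').symm
          · exact Or.inr (inv_mul_eq_iff_eq_mul.1 e')
        rw [show y * (x * x) * y⁻¹ = (y * x * y⁻¹) * (y * x * y⁻¹) by group]
        rcases hmem with e' | e' <;> rw [e']
        · exact mul_mem hx' hx'
        · rw [show x' * z * (x' * z) = x' * x' by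
            rw [mul_assoc, ← mul_assoc z, ← Subgroup.mem_centralizer_iff.1 hzM x' hx', mul_assoc x',
              sq_of_orderOf hz2, mul_one]]
          exact mul_mem hx' hx'
      refine mem_normalizer_of_conj fun x hx => ?_
      have hx' : (⟨x, hx⟩ : M) ∈ Subgroup.closure {w : M | ∃ v, w = v * v} :=
        squares_generate hM ▸ Subgroup.mem_top _
      have key : ∀ w : M, w ∈ Subgroup.closure {w : M | ∃ v, w = v * v} → y * (w : G) * y⁻¹ ∈ M := by
        intro w hw
        induction hw using Subgroup.closure_induction with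
        | mem w hw => obtain ⟨v, rfl⟩ := hw; exact hsq v v.2
        | one => simp
        | mul a b _ _ ha hb =>
          exact (show y * ((a : G) * b) * y⁻¹ = (y * a * y⁻¹) * (y * b * y⁻¹) by group) ▸ mul_mem ha hb
        | inv a _ ha =>
          exact (show y * (a : G)⁻¹ * y⁻¹ = (y * a * y⁻¹)⁻¹ by group) ▸ inv_mem ha
      exact key _ hx'
    have hlt : Nat.card (G ⧸ Subgroup.zpowers z) < Nat.card G := by
      rw [← Subgroup.card_mul_index (Subgroup.zpowers z), Nat.card_zpowers, hz2,
        ← Subgroup.index_eq_card]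
      have := Nat.pos_of_ne_zero (Subgroup.index_ne_zero_of_finite (H := Subgroup.zpowers z))
      omega
    have hnorm := ih _ hlt (M.map q)
      ⟨(((MonoidHom.ofInjective hinj).trans (MulEquiv.subgroupCongr hrange)).symm).trans e⟩ ?_ rfl
    · refine hNtop (eq_top_iff.2 fun y _ => hlift y ?_)
      rw [Subgroup.normalizer_eq_top_iff.2 hnorm]; trivial
    intro x hx hx2 g hg
    obtain ⟨x', hx', rfl⟩ := hx
    obtain ⟨g', rfl⟩ := QuotientGroup.mk'_surjective _ g
    have hx2' : orderOf x' = 2 := by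
      rw [show x' = M.subtype ⟨x', hx'⟩ from rfl, orderOf_injective _ M.subtype_injective,
        ← orderOf_injective _ hinj]
      exact hx2
    have hg' : g' ∈ N := hA x' hx' hx2' g' (hlift _ (by rw [map_mul, map_mul, map_inv]; exact hg))
    refine mem_normalizer_of_conj ?_
    rintro _ ⟨w, hw, rfl⟩
    exact ⟨_, conj_mem_of_normalizer hg' hw, by rw [map_mul, map_mul, map_inv]⟩
  -- every involution of `N` moves the other cosets
  have hfix : ∀ s ∈ N, orderOf s = 2 → ∀ g : G, g⁻¹ * s * g ∈ N → g ∈ N := by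
    intro s hs hs2 g hg
    have hM1 : ∀ x ∈ M, orderOf x = 2 → g⁻¹ * x * g ∈ N → g ∈ N := fun x hx hx2 h => by
      simpa using inv_mem (hA x hx hx2 g⁻¹ (by rwa [inv_inv]))
    obtain ⟨m, hm, z, hz, rfl⟩ := decomp hM hs
    have hmz : m * z = z * m := Subgroup.mem_centralizer_iff.1 hz m hm
    have hmm : m * m = 1 := by
      have h0 := sq_of_orderOf hs2
      rw [show m * z * (m * z) = (m * m) * (z * z) by
        rw [mul_assoc, ← mul_assoc z, ← hmz]; group] at h0
      exact decomp_unique hM (mul_mem hm hm) (one_mem M) (mul_mem hz hz) (one_mem _) (by rw [h0, one_mul])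
    by_cases hz1 : z = 1
    · subst hz1
      rw [mul_one] at hg hs2
      exact hM1 m hm hs2 hg
    by_cases hm1 : m = 1
    · subst hm1
      rw [one_mul] at hg hs2
      obtain ⟨m', hm', z', hz', e'⟩ := decomp hM hg
      have hs2' : orderOf (m' * z') = 2 := by
        rw [← e', show g⁻¹ * z * g = g⁻¹ * z * g⁻¹⁻¹ by rw [inv_inv], orderOf_conj, hs2]
      have hmm' : m' * m' = 1 := by
        have h0 := sq_of_orderOf hs2'
        rw [show m' * z' * (m' * z') = (m' * m') * (z' * z') by
          rw [mul_assoc, ← mul_assoc z', ← Subgroup.mem_centralizer_iff.1 hz' m' hm']; group] at h0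
        exact decomp_unique hM (mul_mem hm' hm') (one_mem M) (mul_mem hz' hz') (one_mem _) (by rw [h0, one_mul])
      have hzc : ∀ x ∈ M, g⁻¹ * x * g ∈ Subgroup.centralizer ({m' * z'} : Set G) := fun x hx => by
        refine Subgroup.mem_centralizer_singleton_iff.2 ?_
        rw [← e']
        calc g⁻¹ * x * g * (g⁻¹ * z * g) = g⁻¹ * (x * z) * g := by group
          _ = g⁻¹ * z * g * (g⁻¹ * x * g) := by
            rw [Subgroup.mem_centralizer_iff.1 hz x hx]; group
      obtain ⟨x, hx2⟩ : ∃ x : M, orderOf x = 2 := exists_prime_orderOf_dvd_card' 2 (by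
        rw [Nat.card_congr e.toEquiv, card_J]; norm_num)
      have hx2' : orderOf (x : G) = 2 := by rw [Subgroup.orderOf_coe]; exact hx2
      by_cases hm1' : m' = 1
      · subst hm1'
        rw [one_mul] at e' hzc hs2'
        set L := Subgroup.centralizer ({z'} : Set G)
        by_cases hL : L = ⊤
        · exfalso
          refine hcen z' hz' hs2' (Subgroup.mem_center_iff.2 fun y => ?_)
          exact Subgroup.mem_centralizer_singleton_iff.1 (show y ∈ L by rw [hL]; exact Subgroup.mem_top y)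
        · refine hM1 x x.2 hx2' (hsub L (fun y hy => ?_) hL (hzc x x.2))
          exact Subgroup.mem_centralizer_singleton_iff.2 (Subgroup.mem_centralizer_iff.1 hz' y hy)
      · exact hM1 x x.2 hx2'
          (centralizer_mixed_le hM hA hm' (orderOf_two hmm' hm1') hz' (hzc x x.2))
    · -- mixed
      have hm2 : orderOf m = 2 := orderOf_two hmm hm1
      obtain ⟨m', hm', z', hz', e'⟩ := decomp hM hg
      have hcm : g⁻¹ * m * g ∈ Subgroup.centralizer ({m' * z'} : Set G) := by
        refine Subgroup.mem_centralizer_singleton_iff.2 ?_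
        rw [← e']
        calc g⁻¹ * m * g * (g⁻¹ * (m * z) * g) = g⁻¹ * (m * (m * z)) * g := by group
          _ = g⁻¹ * (m * z * m) * g := by rw [mul_assoc m z m, ← hmz]
          _ = g⁻¹ * (m * z) * g * (g⁻¹ * m * g) := by group
      have hs2' : orderOf (m' * z') = 2 := by
        rw [← e', show g⁻¹ * (m * z) * g = g⁻¹ * (m * z) * g⁻¹⁻¹ by rw [inv_inv], orderOf_conj, hs2]
      have hmm' : m' * m' = 1 := by
        have h0 := sq_of_orderOf hs2'
        rw [show m' * z' * (m' * z') = (m' * m') * (z' * z') by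
          rw [mul_assoc, ← mul_assoc z', ← Subgroup.mem_centralizer_iff.1 hz' m' hm']; group] at h0
        exact decomp_unique hM (mul_mem hm' hm') (one_mem M) (mul_mem hz' hz') (one_mem _) (by rw [h0, one_mul])
      by_cases hm1' : m' = 1
      · subst hm1'
        rw [one_mul] at e'
        -- `M` centralises the conjugate, so its conjugate lies in `C (m * z)`
        have h1 : ∀ x ∈ M, g * x * g⁻¹ ∈ Subgroup.centralizer ({m * z} : Set G) := fun x hx => by
          refine Subgroup.mem_centralizer_singleton_iff.2 ?_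
          rw [show m * z = g * z' * g⁻¹ by rw [← e']; group]
          calc g * x * g⁻¹ * (g * z' * g⁻¹) = g * (x * z') * g⁻¹ := by group
            _ = g * z' * g⁻¹ * (g * x * g⁻¹) := by
              rw [Subgroup.mem_centralizer_iff.1 hz' x hx]; group
        obtain ⟨x, hx2⟩ : ∃ x : M, orderOf x = 2 := exists_prime_orderOf_dvd_card' 2 (by
          rw [Nat.card_congr e.toEquiv, card_J]; norm_num)
        exact hA x x.2 (by rw [Subgroup.orderOf_coe]; exact hx2) g
          (centralizer_mixed_le hM hA hm hm2 hz (h1 x x.2))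
      · exact hM1 m hm hm2
          (centralizer_mixed_le hM hA hm' (orderOf_two hmm' hm1') hz' hcm)
  have heven : Even (Nat.card N) := even_iff_two_dvd.2
    ((show 2 ∣ Nat.card M by rw [Nat.card_congr e.toEquiv, card_J]; norm_num).trans
      (Subgroup.card_dvd_of_le hMN))
  have hse : Cfsg.IsStronglyEmbedded N := by
    refine (Cfsg.Agent.S0224.result N hNtop heven).2 fun s hs hs2 => ?_
    rw [Nat.card_eq_one_iff_unique]
    refine ⟨⟨fun a b => ?_⟩, ⟨⟨((1 : G) : G ⧸ N), ?_⟩⟩⟩
    · have hone : ∀ a : {c : G ⧸ N // s • c = c}, a.1 = ((1 : G) : G ⧸ N) := by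
        rintro ⟨c, hc⟩
        obtain ⟨g, rfl⟩ := QuotientGroup.mk_surjective c
        rw [MulAction.Quotient.smul_coe, smul_eq_mul, eq_comm, QuotientGroup.eq, ← mul_assoc] at hc
        exact (QuotientGroup.eq.2 (by simpa using hfix s hs hs2 g hc))
      exact Subtype.ext ((hone a).trans (hone b).symm)
    · rw [MulAction.Quotient.smul_coe, smul_eq_mul, mul_one, eq_comm, QuotientGroup.eq, inv_one,
        one_mul]
      exact hs
  obtain ⟨x, hx2⟩ : ∃ x : M, orderOf x = 2 := exists_prime_orderOf_dvd_card' 2 (by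
    rw [Nat.card_congr e.toEquiv, card_J]; norm_num)
  have hx2' : orderOf (x : G) = 2 := by rw [Subgroup.orderOf_coe]; exact hx2
  obtain ⟨g, hg⟩ : ∃ g, g ∉ N := by
    by_contra! h
    exact hNtop (eq_top_iff.2 fun y _ => h y)
  set u := g * (x : G) * g⁻¹ with hu
  have hu2 : orderOf u = 2 := by rw [hu, orderOf_conj, hx2']
  have huN : u ∉ N := fun h => hg (hA x x.2 hx2' g h)
  have hall : ∀ s ∈ N, orderOf s = 2 → s ∈ M := by
    intro s hs hs2
    obtain ⟨c, hc⟩ := isConj_iff.1
      ((Cfsg.Agent.S1225.result N hse u hu2 huN (x : G) (x : G) hx2' (hMN x.2) hx2' (hMN x.2)).2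
        (x : G) s hx2' hs2)
    rw [← hc]
    exact conj_mem_of_normalizer (hA x x.2 hx2' c (hc.symm ▸ hs)) x.2
  set D := N ⊓ N.map (MulAut.conj u).toMonoidHom with hD
  have hDodd : Odd (Nat.card D) := hse.2.2 u huN
  let f : D →* MulAut M :=
    { toFun := fun d =>
        { toFun := fun y => ⟨(d : G) * y * (d : G)⁻¹, conj_mem_of_normalizer d.2.1 y.2⟩
          invFun := fun y => ⟨(d : G)⁻¹ * y * (d : G)⁻¹⁻¹, conj_mem_of_normalizer (inv_mem d.2.1) y.2⟩
          left_inv := fun y => Subtype.ext (by simp [mul_assoc])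
          right_inv := fun y => Subtype.ext (by simp [mul_assoc])
          map_mul' := fun a b => Subtype.ext (by simp [mul_assoc]) }
      map_one' := by ext y; simp
      map_mul' := fun a b => by ext y; simp [mul_assoc] }
  have hι : Function.Bijective (MulAut.conj : M →* MulAut M) := by
    refine ⟨(injective_iff_map_eq_one _).2 fun m hm => ?_, fun φ => ?_⟩
    · have : m ∈ Subgroup.center M := Subgroup.mem_center_iff.2 fun y => by
        have := DFunLike.congr_fun hm y
        exact (mul_inv_eq_iff_eq_mul.1 this).symm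
      rwa [center_eq_bot hM, Subgroup.mem_bot] at this
    · obtain ⟨m, hm⟩ := eq_conj hM φ
      exact ⟨m, MulEquiv.ext fun y => (hm y).symm⟩
  let ι := MulEquiv.ofBijective (MulAut.conj : M →* MulAut M) hι
  let F : D →* J := (e.toMonoidHom.comp ι.symm.toMonoidHom).comp f
  refine no_odd_transitive F.range (hDodd.of_dvd_nat (Subgroup.card_range_dvd F)) fun a b ha hb => ?_
  have hso : ∀ a : J, orderOf a = 2 → orderOf ((e.symm a : M) : G) = 2 := fun a ha => by
    rw [Subgroup.orderOf_coe, ← ha]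
    exact orderOf_injective e.symm.toMonoidHom e.symm.injective a
  obtain ⟨⟨d, hd, hde⟩, -⟩ := Cfsg.Agent.S1225.result N hse u hu2 huN _ _
    (hso a ha) (hMN (e.symm a).2) (hso b hb) (hMN (e.symm b).2)
  refine ⟨F ⟨d, hd⟩, ⟨_, rfl⟩, ?_⟩
  have hι' : MulAut.conj (ι.symm (f ⟨d, hd⟩)) (e.symm a) = f ⟨d, hd⟩ (e.symm a) :=
    DFunLike.congr_fun (ι.apply_symm_apply (f ⟨d, hd⟩)) _
  apply e.symm.injective
  simp only [F, MonoidHom.comp_apply, MulEquiv.coe_toMonoidHom, map_mul, map_inv,
    MulEquiv.symm_apply_apply]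
  rw [← MulAut.conj_apply, hι']
  exact Subtype.ext hde

end CfsgLib.WeakClosureJ1
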