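import Cfsg.Agent.Lib.WeakClosureJ1.Small
import Cfsg.Agent.Lib.TwoTimesAlt.Main
import Cfsg.Agent.Lib.JankoOne.Mult

/-!
A perfect group whose involution centraliser is `2 × A₅` times a central subgroup.
-/

set_option autoImplicit false
set_option linter.style.haveILetI false
set_option linter.unusedSectionVars false

open Cfsg

namespace CfsgLib.WeakClosureJ1

open CfsgLib.J1Order

universe u

theorem zK_sq : zK * zK = (1 : K5) := by decide +kernel

theorem not_index_two_of_perfect {L : Type*} [Group L] (hperf : commutator L = ⊤) (N : Subgroup L)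
    (hN : N.Normal) : N.index ≠ 2 := fun hi => by
  haveI : Fact (Nat.Prime 2) := ⟨Nat.prime_two⟩
  haveI : IsCyclic (L ⧸ N) := isCyclic_of_prime_card (p := 2) hi
  have hle : commutator L ≤ N := by
    rw [← Subgroup.Normal.quotient_commutative_iff_commutator_le]
    exact IsCyclic.isMulCommutative (α := L ⧸ N)
  rw [hperf, top_le_iff] at hle
  rw [hle, Subgroup.index_top] at hi
  omega

theorem recognise {L : Type*} [Group L] [Finite L] (hperf : commutator L = ⊤) (φ : K5 →* L)
    (hinj : Function.Injective φ) (P : Sylow 2 L) (hzP : φ zK ∈ P)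
    (hPc : ∀ x ∈ P, x * φ zK = φ zK * x)
    (hcent : ∀ g, g * φ zK = φ zK * g → g ∈ φ.range) :
    Cfsg.Spor.IsoJ1 L ∧ ∀ u, orderOf u = 2 → IsConj (φ zK) u := by
  have hJ : orderOf (φ zK) = 2 := by
    rw [orderOf_injective φ hinj]
    exact orderOf_eq_prime (p := 2) (by decide +kernel) (by decide +kernel)
  have hcz : ∀ k : K5, φ k * φ zK = φ zK * φ k := fun k => by
    rw [← map_mul, ← map_mul]
    exact congrArg φ (Prod.ext (mul_comm _ _) (by simp [zK]))
  let τ : A5 →* L := φ.comp (MonoidHom.inr (Multiplicative (ZMod 2)) A5)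
  have hτ : Function.Injective τ := fun a b e => congrArg Prod.snd (hinj e)
  have hd : Cfsg.IsInternalDirectProduct (Subgroup.zpowers (φ zK)) τ.range
      (Subgroup.centralizer ({φ zK} : Set L)) := by
    refine ⟨Subgroup.zpowers_le.2 (Subgroup.mem_centralizer_singleton_iff.2 rfl), ?_, ?_, ?_, ?_⟩
    · rintro _ ⟨a, rfl⟩
      exact Subgroup.mem_centralizer_singleton_iff.2 (hcz _)
    · rintro a ha _ ⟨b, rfl⟩
      obtain ⟨i, rfl⟩ := Subgroup.mem_zpowers_iff.1 ha
      exact ((show Commute (φ zK) (τ b) from (hcz (1, b)).symm).zpow_left i).eq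
    · rw [eq_bot_iff]
      rintro x ⟨hx, a, rfl⟩
      obtain ⟨i, hi⟩ := Subgroup.mem_zpowers_iff.1 hx
      rw [← map_zpow] at hi
      have e := congrArg Prod.snd (hinj (hi : φ (zK ^ i) = φ (1, a)))
      rw [Prod.pow_snd] at e
      simp [zK] at e
      rw [Subgroup.mem_bot, ← e, map_one]
    · refine le_antisymm (sup_le ?_ ?_) fun x hx => ?_
      · exact Subgroup.zpowers_le.2 (Subgroup.mem_centralizer_singleton_iff.2 rfl)
      · rintro _ ⟨a, rfl⟩
        exact Subgroup.mem_centralizer_singleton_iff.2 (hcz _)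
      · obtain ⟨k, rfl⟩ := hcent x (Subgroup.mem_centralizer_singleton_iff.1 hx)
        rcases fst_cases k.1 with e | e
        · exact Subgroup.mem_sup_right ⟨k.2, congrArg φ (Prod.ext e.symm rfl)⟩
        · rw [show k = zK * ((1 : Multiplicative (ZMod 2)), k.2) from
            Prod.ext (e.trans (by simp [zK])) (by simp [zK]), map_mul]
          exact Subgroup.mul_mem_sup (Subgroup.mem_zpowers _) ⟨k.2, rfl⟩
  let h : CfsgLib.TwoTimesAlt.Hyp L :=
    ⟨5, φ zK, P, τ.range, hJ, hzP, hPc, (MonoidHom.ofInjective hτ).symm, hd,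
      not_index_two_of_perfect hperf⟩
  haveI : Nontrivial L := ⟨⟨φ zK, 1, fun e => by simp [e] at hJ⟩⟩
  have hns : ¬ Group.IsSolvable L := fun hs => by
    haveI := hs
    exact (Group.IsSolvable.commutator_lt_top_of_nontrivial (G := L)).ne hperf
  exact ⟨h.five hns rfl, fun u hu => h.isConj_J hu⟩

/-- A perfect central extension of the first Janko group is trivial. -/
theorem eq_bot_of_stem {M : Type u} [Group M] [Finite M] (hperf : commutator M = ⊤)
    (Z : Subgroup M) [Z.Normal] (hZ : Z ≤ Subgroup.center M) (hJ : Cfsg.Spor.IsoJ1 (M ⧸ Z)) :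
    Z = ⊥ := by
  obtain ⟨e⟩ := hJ
  let s : Shrink.{0} M ≃* M := Shrink.mulEquiv
  haveI : Finite (Shrink.{0} M) := Finite.of_equiv M (equivShrink.{0} M)
  let σ : Shrink.{0} M →* Cfsg.Spor.J1 :=
    (e.toMonoidHom.comp (QuotientGroup.mk' Z)).comp s.toMonoidHom
  have hker : σ.ker = Z.comap s.toMonoidHom := by
    ext x
    show e (QuotientGroup.mk' Z (s x)) = 1 ↔ s x ∈ Z
    rw [MulEquiv.map_eq_one_iff, QuotientGroup.mk'_apply, QuotientGroup.eq_one_iff]
  have hperf' : commutator (Shrink.{0} M) = ⊤ := by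
    rw [commutator_def, ← MonoidHom.range_eq_top.2 (show Function.Surjective s.symm.toMonoidHom from
      s.symm.surjective), MonoidHom.range_eq_map, ← Subgroup.map_commutator, ← commutator_def, hperf]
  have hstem : Cfsg.IsStemExtension σ := by
    refine ⟨(e.surjective.comp (QuotientGroup.mk'_surjective Z)).comp s.surjective, ?_,
      hperf' ▸ le_top⟩
    rw [hker]
    intro x hx
    rw [Subgroup.mem_center_iff]
    exact fun y => s.injective (by simp only [map_mul]; exact Subgroup.mem_center_iff.1 (hZ hx) _)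
  obtain ⟨π, hπ⟩ := CfsgLib.JankoOne.hasCyclicSchurMultiplier_J1.2 (Shrink.{0} M) σ hstem
  have : Subsingleton σ.ker := hπ.subsingleton
  rw [eq_bot_iff]
  intro z hz
  have hmem : s.symm z ∈ σ.ker := by
    rw [hker]
    show s (s.symm z) ∈ Z
    rwa [MulEquiv.apply_symm_apply]
  have := congrArg (fun x : σ.ker => s (x : Shrink.{0} M))
    (Subsingleton.elim (⟨_, hmem⟩ : σ.ker) 1)
  simpa using this

/-- The same with a central subgroup in the centraliser. -/
theorem recognise_central {M : Type u} [Group M] [Finite M] (hperf : commutator M = ⊤) (φ : K5 →* M)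
    (hinj : Function.Injective φ) (P : Sylow 2 M) (hzP : φ zK ∈ P)
    (hPc : ∀ x ∈ P, x * φ zK = φ zK * x)
    (hPab : ∀ a ∈ P, ∀ b ∈ P, a * b = b * a)
    (Z : Subgroup M) (hZ : Z ≤ Subgroup.center M) (hZφ : ∀ k, φ k ∈ Z → k = 1)
    (hcent : ∀ g, g * φ zK = φ zK * g → ∃ k, ∃ z ∈ Z, g = φ k * z) :
    Z = ⊥ ∧ Cfsg.Spor.IsoJ1 M ∧ ∀ u, orderOf u = 2 → IsConj (φ zK) u := by
  classical
  haveI : Fact (Nat.Prime 2) := ⟨Nat.prime_two⟩
  haveI hZn : Z.Normal := ⟨fun z hz g => by
    rwa [Subgroup.mem_center_iff.1 (hZ hz) g, mul_inv_cancel_right]⟩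
  -- the central subgroup has odd order
  have hodd : ∀ z ∈ Z, z * z = 1 → z = 1 := by
    intro z hz hz2
    have hzc := Subgroup.mem_center_iff.1 (hZ hz)
    haveI : (Subgroup.zpowers z).Normal := ⟨fun x hx g => by
      have : x ∈ Subgroup.center M := Subgroup.zpowers_le.2 (hZ hz) hx
      rwa [Subgroup.mem_center_iff.1 this g, mul_inv_cancel_right]⟩
    have hp : IsPGroup 2 (Subgroup.zpowers z) := fun x => ⟨1, by
      obtain ⟨i, hi⟩ := Subgroup.mem_zpowers_iff.1 x.2
      refine Subtype.ext ?_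
      show (x : M) ^ (2 ^ 1) = 1
      rw [pow_one, pow_two, ← hi, ← (Commute.refl z).mul_zpow, hz2, one_zpow]⟩
    have hzP' : z ∈ P := hp.le_sylow_of_normal P (Subgroup.mem_zpowers z)
    haveI : IsMulCommutative (P : Subgroup M) := ⟨⟨fun a b => Subtype.ext (hPab _ a.2 _ b.2)⟩⟩
    letI : CommGroup (P : Subgroup M) :=
      { (inferInstance : Group (P : Subgroup M)) with mul_comm := fun a b => Subtype.ext (hPab _ a.2 _ b.2) }
    let v : M →* (P : Subgroup M) := MonoidHom.transfer (MonoidHom.id (P : Subgroup M))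
    have hkey : ∀ (k : ℕ) (g₀ : M), g₀⁻¹ * z ^ k * g₀ ∈ (P : Subgroup M) → g₀⁻¹ * z ^ k * g₀ = z ^ k := by
      intro k g₀ _
      rw [mul_assoc, ← Subgroup.mem_center_iff.1 (pow_mem (hZ hz) k) g₀, ← mul_assoc, inv_mul_cancel,
        one_mul]
    have hv := MonoidHom.transfer_eq_pow (MonoidHom.id (P : Subgroup M)) z hkey
    have hv1 : v z = 1 := MonoidHom.mem_ker.1
      (Abelianization.commutator_subset_ker v (hperf ▸ Subgroup.mem_top z))
    have hpow : z ^ (P : Subgroup M).index = 1 := congrArg Subtype.val (hv.symm.trans hv1)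
    obtain ⟨j, hj⟩ := Nat.odd_iff.2 (Nat.two_dvd_ne_zero.1 P.not_dvd_index)
    rw [hj, pow_succ, pow_mul, pow_two, hz2, one_pow, one_mul] at hpow
    exact hpow
  set q := QuotientGroup.mk' Z with hq
  have hinjq : Function.Injective (q.comp φ) := by
    rw [injective_iff_map_eq_one]
    intro k hk
    exact hZφ k ((QuotientGroup.eq_one_iff _).1 hk)
  have hperfq : commutator (M ⧸ Z) = ⊤ := by
    rw [commutator_def, ← MonoidHom.range_eq_top.2 (QuotientGroup.mk'_surjective Z),
      MonoidHom.range_eq_map, ← Subgroup.map_commutator, ← commutator_def, hperf]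
  have hcq : ∀ g, g * q (φ zK) = q (φ zK) * g → g ∈ (q.comp φ).range := by
    intro g
    obtain ⟨m, rfl⟩ := QuotientGroup.mk'_surjective Z g
    intro hm
    set z := m * φ zK * m⁻¹ * (φ zK)⁻¹ with hzdef
    have hz : z ∈ Z := (QuotientGroup.eq_one_iff _).1 (show q z = 1 by
      rw [hzdef, map_mul, map_mul, map_mul, map_inv, map_inv, hm, mul_inv_cancel_right, mul_inv_cancel])
    have ht2 : φ zK * φ zK = 1 := by
      rw [← map_mul, zK_sq, map_one]
    have hz2 : z * z = 1 := by
      have e : m * φ zK * m⁻¹ = z * φ zK := by rw [hzdef]; group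
      have h0 : (z * φ zK) * (z * φ zK) = 1 := by
        rw [← e, show m * φ zK * m⁻¹ * (m * φ zK * m⁻¹) = m * (φ zK * φ zK) * m⁻¹ by group, ht2,
          mul_one, mul_inv_cancel]
      rwa [show z * φ zK * (z * φ zK) = (z * z) * (φ zK * φ zK) by
        rw [mul_assoc, ← mul_assoc (φ zK), Subgroup.mem_center_iff.1 (hZ hz) (φ zK)]; group,
        ht2, mul_one] at h0
    have hz1 := hodd z hz hz2
    rw [hzdef, mul_inv_eq_one, mul_inv_eq_iff_eq_mul] at hz1
    obtain ⟨k, w, hw, rfl⟩ := hcent m hz1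
    refine ⟨k, ?_⟩
    show q (φ k) = q (φ k * w)
    rw [map_mul, show q w = 1 from (QuotientGroup.eq_one_iff w).2 hw, mul_one]
  have hZ1 : Z = ⊥ := by
    refine eq_bot_of_stem hperf Z hZ
      (recognise hperfq (q.comp φ) hinjq (P.mapSurjective (QuotientGroup.mk'_surjective Z)) ?_ ?_ hcq).1
    · exact ⟨_, hzP, rfl⟩
    · rintro _ ⟨x, hx, rfl⟩
      show q x * q (φ zK) = q (φ zK) * q x
      rw [← map_mul, ← map_mul, hPc x hx]
  refine ⟨hZ1, recognise hperf φ hinj P hzP hPc fun g hg => ?_⟩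
  obtain ⟨k, z, hz, rfl⟩ := hcent g hg
  rw [hZ1, Subgroup.mem_bot] at hz
  exact ⟨k, by rw [hz, mul_one]⟩

end CfsgLib.WeakClosureJ1
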