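import Cfsg.Agent.Lib.WeakClosureJ1.Automizer
import Cfsg.Agent.Lib.WeakClosureJ1.Recognition
import Cfsg.Agent.Lib.WeakClosureJ1.Embedded

/-!
The subgroup generated by the conjugates of the component under the element of order seven.
-/

set_option autoImplicit false
set_option maxRecDepth 100000
set_option synthInstance.maxSize 4000
set_option synthInstance.maxHeartbeats 400000
set_option linter.style.haveILetI false
set_option linter.unusedSectionVars false

open scoped Pointwise commutatorElement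
open Cfsg

namespace CfsgLib.WeakClosureJ1

open CfsgLib.J1Order

/-- The setting, from the hypotheses. -/
theorem exists_setting {G : Type*} [Group G] [Finite G] {t : G} (ht : orderOf t = 2) (S : Sylow 2 G)
    (htc : ∀ s ∈ (S : Subgroup G), s * t = t * s)
    (e : ↥(Subgroup.closure {x : G | ∃ g : G, x = g * t * g⁻¹ ∧ x * t = t * x}) ≃* K5) :
    ∃ h : Setting G, h.t = t := by
  haveI : Fact (Nat.Prime 2) := ⟨Nat.prime_two⟩
  set W := Subgroup.closure {x : G | ∃ g : G, x = g * t * g⁻¹ ∧ x * t = t * x} with hW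
  have htW : t ∈ W := Subgroup.subset_closure ⟨1, by simp, rfl⟩
  have hWC : W ≤ Subgroup.centralizer ({t} : Set G) := by
    rw [hW, Subgroup.closure_le]
    rintro x ⟨g, -, hx⟩
    exact Subgroup.mem_centralizer_singleton_iff.2 hx
  have hz : e ⟨t, htW⟩ = zK := by
    have hcm : ∀ k : K5, e ⟨t, htW⟩ * k = k * e ⟨t, htW⟩ := fun k => by
      obtain ⟨w, rfl⟩ := e.surjective k
      rw [← map_mul, ← map_mul]
      exact congrArg e (Subtype.ext (Subgroup.mem_centralizer_singleton_iff.1 (hWC w.2)).symm)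
    refine eq_zK_of_central _ ?_ ?_ (hcm _) (hcm _)
    · rw [← map_pow, map_eq_one_iff e e.injective]
      exact Subtype.ext (by
        show t ^ 2 = 1
        rw [← ht, pow_orderOf_eq_one])
    · intro h1
      rw [map_eq_one_iff e e.injective] at h1
      have : t = 1 := congrArg Subtype.val h1
      simp [this] at ht
  let φ : K5 →* G := W.subtype.comp e.symm.toMonoidHom
  have hφ : Function.Injective φ := W.subtype_injective.comp e.symm.injective
  have hφz : φ zK = t := by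
    show ((e.symm zK : W) : G) = t
    rw [← hz, MulEquiv.symm_apply_apply]
  have hrange : φ.range = W := by
    refine le_antisymm ?_ fun x hx => ⟨e ⟨x, hx⟩, by simp [φ]⟩
    rintro _ ⟨k, rfl⟩
    exact (e.symm k).2
  have hE2 : IsPGroup 2 (subE.map φ) := (IsPGroup.of_card (p := 2) (n := 3) card_subE).map φ
  have hSC : (S : Subgroup G) ≤ Subgroup.centralizer ({t} : Set G) := fun s hs =>
    Subgroup.mem_centralizer_singleton_iff.2 (htc s hs)
  set C := Subgroup.centralizer ({t} : Set G)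
  obtain ⟨Q, hQ⟩ := (hE2.comap_of_injective C.subtype C.subtype_injective).exists_le_sylow
  obtain ⟨c, hc⟩ := MulAction.exists_smul_eq C (S.subtype hSC) Q
  have hmem : ∀ s, s ∈ ((c : G) • S : Sylow 2 G) → s * t = t * s := by
    intro s hs
    replace hs : s ∈ ((((c : G) • S : Sylow 2 G)) : Subgroup G) := hs
    rw [Sylow.coe_subgroup_smul] at hs
    obtain ⟨x, hx, rfl⟩ := hs
    exact Subgroup.mem_centralizer_singleton_iff.1 (mul_mem (mul_mem c.2 (hSC hx)) (inv_mem c.2))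
  refine ⟨⟨φ, hφ, (c : G) • S, fun s hs => by rw [hφz]; exact hmem s hs, fun k hk => ?_, by
    rw [hrange, hφz]⟩, hφz⟩
  have hkC : φ k ∈ C := hWC (e.symm k).2
  have hm : (⟨φ k, hkC⟩ : C) ∈ (Q : Subgroup C) := hQ ⟨k, hk, rfl⟩
  rw [← hc, Sylow.coe_subgroup_smul] at hm
  obtain ⟨x, hx, hxe⟩ := hm
  show φ k ∈ ((((c : G) • S : Sylow 2 G)) : Subgroup G)
  rw [Sylow.coe_subgroup_smul]
  exact ⟨(x : G), hx, congrArg Subtype.val hxe⟩

theorem comm_values : ∀ a : A5, ∃ x y : A5, a = x * y * x⁻¹ * y⁻¹ := by decide +kernel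

theorem inv_mod_seven : ∀ j : Fin 7, j ≠ 0 → ∃ m : Fin 7, (j : ℕ) * m % 7 = 1 := by decide

namespace Setting

variable {G : Type*} [Group G] [Finite G] (h : Setting G)

theorem exists_J1 : ∃ M : Subgroup G, h.t ∈ M ∧ Cfsg.Spor.IsoJ1 M ∧
    (∀ c ∈ h.C, c ∈ Subgroup.normalizer (M : Set G)) ∧
    (∀ x ∈ M, orderOf x = 2 → ∃ m ∈ M, m * h.t * m⁻¹ = x) ∧
    ∀ g : G, g * h.t * g⁻¹ ∈ Subgroup.normalizer (M : Set G) → g * h.t * g⁻¹ ∈ M := by
  classical
  haveI : Fact (Nat.Prime 2) := ⟨Nat.prime_two⟩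
  obtain ⟨d, Z, hdN, hfree, h7, hZD, hZd, hZφ, hsplit, hZn⟩ := h.exists_split
  let M : Subgroup G := ⨆ i : ℕ, h.τ.range.map (MulAut.conj (d ^ i)).toMonoidHom
  have hgen : ∀ (i : ℕ) (a : A5), d ^ i * h.τ a * (d ^ i)⁻¹ ∈ M := fun i a =>
    le_iSup (fun i : ℕ => h.τ.range.map (MulAut.conj (d ^ i)).toMonoidHom) i ⟨_, ⟨a, rfl⟩, rfl⟩
  have hτM : ∀ a, h.τ a ∈ M := fun a => by simpa using hgen 0 a
  -- the involution
  have htM : h.t ∈ M := by
    let F : Fin 7 → {y : h.E // y ≠ 1} := fun i =>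
      ⟨⟨d ^ (i : ℕ) * h.τ uu * (d ^ (i : ℕ))⁻¹,
        h.NE_conj_mem_E (pow_mem hdN _) ((h.τ_mem_E uu).2 (Or.inr (Or.inl rfl)))⟩, fun e => by
        have e' : d ^ (i : ℕ) * h.τ uu * (d ^ (i : ℕ))⁻¹ = 1 := congrArg Subtype.val e
        refine gen_uu.2.2.2.2.1 (h.τ_inj ?_)
        rw [map_one]
        calc h.τ uu = (d ^ (i : ℕ))⁻¹ * (d ^ (i : ℕ) * h.τ uu * (d ^ (i : ℕ))⁻¹) * d ^ (i : ℕ) := by group
          _ = 1 := by rw [e']; group⟩
    have huE : h.τ uu ∈ h.E := (h.τ_mem_E uu).2 (Or.inr (Or.inl rfl))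
    have hne : ∀ j : Fin 7, j ≠ 0 → d ^ (j : ℕ) * h.τ uu * (d ^ (j : ℕ))⁻¹ ≠ h.τ uu := by
      intro j hj e
      obtain ⟨m, hm⟩ := inv_mod_seven j hj
      let K : Subgroup G := Subgroup.centralizer {h.τ uu}
      have hmem : ∀ {g : G}, g * h.τ uu * g⁻¹ = h.τ uu → g ∈ K := fun e =>
        Subgroup.mem_centralizer_singleton_iff.2 (mul_inv_eq_iff_eq_mul.1 e)
      have h1 : d ∈ K := by
        have hh : (d ^ (j : ℕ)) ^ (m : ℕ) = (d ^ 7) ^ ((j : ℕ) * m / 7) * d := by
          rw [← pow_mul, ← pow_mul]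
          nth_rw 3 [← pow_one d]
          rw [← pow_add]
          congr 1
          omega
        have := mul_mem (inv_mem (pow_mem (hmem (h7 _ huE)) ((j : ℕ) * m / 7)))
          (pow_mem (hmem e) (m : ℕ))
        rwa [hh, inv_mul_cancel_left] at this
      have := hfree _ huE (by rw [Subgroup.mem_centralizer_singleton_iff.1 h1, mul_inv_cancel_right])
      exact gen_uu.2.2.2.2.1 (h.τ_inj (this.trans (map_one _).symm))
    have hle : ∀ a b : Fin 7, (a : ℕ) ≤ b → F a = F b → a = b := by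
      intro a b hab e
      have e' : d ^ (a : ℕ) * h.τ uu * (d ^ (a : ℕ))⁻¹ = d ^ (b : ℕ) * h.τ uu * (d ^ (b : ℕ))⁻¹ :=
        congrArg (fun y : {y : h.E // y ≠ 1} => ((y.1 : h.E) : G)) e
      by_contra hne'
      refine hne ⟨(b : ℕ) - a, by omega⟩ (fun e0 => hne' (Fin.ext (by
        have : (b : ℕ) - a = 0 := congrArg Fin.val e0
        omega))) ?_
      show d ^ ((b : ℕ) - a) * h.τ uu * (d ^ ((b : ℕ) - a))⁻¹ = h.τ uu
      rw [show (b : ℕ) = a + ((b : ℕ) - a) by omega, pow_add] at e'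
      calc d ^ ((b : ℕ) - a) * h.τ uu * (d ^ ((b : ℕ) - a))⁻¹
          = (d ^ (a : ℕ))⁻¹ * (d ^ (a : ℕ) * d ^ ((b : ℕ) - a) * h.τ uu *
            (d ^ (a : ℕ) * d ^ ((b : ℕ) - a))⁻¹) * d ^ (a : ℕ) := by group
        _ = h.τ uu := by rw [← e']; group
    have hinj : Function.Injective F := fun a b e => by
      rcases le_total (a : ℕ) b with hab | hab
      exacts [hle a b hab e, (hle b a hab e.symm).symm]
    have hcard : Nat.card {y : h.E // y ≠ 1} = 7 := by
      rw [← h.card_compl]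
      exact Nat.card_coe_set_eq _
    obtain ⟨i, hi⟩ := ((Nat.bijective_iff_injective_and_card F).2
      ⟨hinj, by rw [hcard, Nat.card_fin]⟩).2 ⟨⟨h.t, h.t_mem_E⟩, fun e => h.t_ne_one (congrArg Subtype.val e)⟩
    have hi' : d ^ (i : ℕ) * h.τ uu * (d ^ (i : ℕ))⁻¹ = h.t :=
      congrArg (fun y : {y : h.E // y ≠ 1} => ((y.1 : h.E) : G)) hi
    rw [← hi']
    exact hgen _ _
  have hφM : ∀ k, h.φ k ∈ M := fun k => by
    rcases h.φ_pair k with e | e <;> rw [e]
    exacts [hτM _, mul_mem htM (hτM _)]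
  have hEM : h.E ≤ M := by rintro _ ⟨k, -, rfl⟩; exact hφM k
  have hMZ : M ≤ Subgroup.centralizer (Z : Set G) := by
    refine iSup_le fun i => ?_
    rintro _ ⟨_, ⟨a, rfl⟩, rfl⟩
    refine Subgroup.mem_centralizer_iff.2 fun z hz => ?_
    have e1 : Commute (d ^ i) z := (show Commute d z from hZd z hz).pow_left i
    have e2 : Commute (h.τ a) z := h.D_comm (hZD hz) _
    exact (((e1.mul_left e2).mul_left e1.inv_left)).symm.eq
  have hZc : ∀ z ∈ Z, ∀ m ∈ M, z * m = m * z := fun z hz m hm =>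
    Subgroup.mem_centralizer_iff.1 (hMZ hm) z hz
  have hperf : commutator M = ⊤ := by
    refine Subgroup.map_injective M.subtype_injective ?_
    rw [Subgroup.map_subtype_commutator, ← MonoidHom.range_eq_map, Subgroup.range_subtype]
    refine le_antisymm (Subgroup.commutator_le_self M) (iSup_le fun i => ?_)
    rintro _ ⟨_, ⟨a, rfl⟩, rfl⟩
    obtain ⟨x, y, rfl⟩ := comm_values a
    have := Subgroup.commutator_mem_commutator (hgen i x) (hgen i y)
    convert this using 1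
    show d ^ i * h.τ (x * y * x⁻¹ * y⁻¹) * (d ^ i)⁻¹ = _
    rw [commutatorElement_def, map_mul, map_mul, map_mul, map_inv, map_inv]
    group
  have hCN : ∀ c ∈ h.C, c ∈ Subgroup.normalizer (M : Set G) := by
    intro c hc
    obtain ⟨k, z, hz, rfl⟩ := hsplit c hc
    exact mul_mem (Subgroup.le_normalizer (hφM k))
      (mem_normalizer_of_conj fun m hm => by rw [hZc z hz m hm, mul_inv_cancel_right]; exact hm)
  -- a Sylow subgroup
  obtain ⟨P, hP⟩ := ((h.S.2.to_le h.E_le_S).comap_of_injective M.subtype M.subtype_injective).exists_le_sylow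
  set P' : Subgroup G := (P : Subgroup M).map M.subtype with hP'
  have hEP : h.E ≤ P' := fun y hy => ⟨⟨y, hEM hy⟩, hP hy, rfl⟩
  have hP2 : IsPGroup 2 P' := P.2.map _
  have hPC : P' ≤ h.C := by
    by_contra hne
    haveI : Group.IsNilpotent P' := hP2.isNilpotent
    have htop : h.C.subgroupOf P' ≠ ⊤ := fun e => hne (Subgroup.subgroupOf_eq_top.1 e)
    obtain ⟨g, hg, hgK⟩ := SetLike.exists_of_lt
      (Group.normalizerCondition_of_isNilpotent _ (lt_top_iff_ne_top.2 htop))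
    have hgNE : (g : G) ∈ h.NE := by
      refine h.conj_le_E (P := P' ⊓ h.C) (hP2.to_le inf_le_left) (le_inf hEP h.E_le_C) inf_le_right
        fun y hy => ?_
      have := conj_mem_of_normalizer hg (show (⟨y, hEP hy⟩ : P') ∈ h.C.subgroupOf P' from h.E_le_C hy)
      exact Subgroup.mem_inf.2 ⟨mul_mem (mul_mem g.2 (hEP hy)) (inv_mem g.2), this⟩
    refine hgK (h.Q_le_C ((h.act_eq_one (n := ⟨g, hgNE⟩)).1 ?_))
    obtain ⟨n, hn⟩ := hP2 g
    have h1 : orderOf (h.act.rangeRestrict ⟨g, hgNE⟩) ∣ 2 ^ n := orderOf_dvd_of_pow_eq_one (by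
      rw [← map_pow, show (⟨g, hgNE⟩ : h.NE) ^ (2 ^ n) = 1 from Subtype.ext (by
        show (g : G) ^ (2 ^ n) = 1
        exact congrArg Subtype.val hn),
        map_one])
    have h2 : orderOf (h.act.rangeRestrict ⟨g, hgNE⟩) ∣ 21 := h.card_range ▸ orderOf_dvd_natCard _
    have h3 := Nat.eq_one_of_dvd_coprimes
      (Nat.Coprime.pow_left n (show Nat.Coprime 2 21 by norm_num)) h1 h2
    exact congrArg Subtype.val (orderOf_eq_one_iff.1 h3)
  have hPab : ∀ a ∈ P', ∀ b ∈ P', a * b = b * a := by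
    let K : Subgroup K5 :=
      { carrier := {k | ∃ z ∈ Z, h.φ k * z ∈ P'}
        one_mem' := ⟨1, one_mem _, by rw [map_one, one_mul]; exact one_mem _⟩
        mul_mem' := by
          rintro k l ⟨z, hz, hk⟩ ⟨w, hw, hl⟩
          refine ⟨z * w, mul_mem hz hw, ?_⟩
          have e : h.φ (k * l) * (z * w) = h.φ k * z * (h.φ l * w) := by
            calc h.φ (k * l) * (z * w) = h.φ k * (h.φ l * z) * w := by rw [map_mul]; group
              _ = h.φ k * z * (h.φ l * w) := by rw [h.D_comm (hZD hz) l]; group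
          rw [e]
          exact mul_mem hk hl
        inv_mem' := by
          rintro k ⟨z, hz, hk⟩
          refine ⟨z⁻¹, inv_mem hz, ?_⟩
          have e : h.φ k⁻¹ * z⁻¹ = (h.φ k * z)⁻¹ := by
            rw [h.D_comm (hZD (inv_mem hz)), map_inv, mul_inv_rev]
          rw [e]
          exact inv_mem hk }
    have hK : IsPGroup 2 K := by
      rintro ⟨k, z, hz, hk⟩
      obtain ⟨n, hn⟩ := hP2 ⟨_, hk⟩
      refine ⟨n, Subtype.ext ?_⟩
      show k ^ (2 ^ n) = 1
      refine hZφ _ ?_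
      have e : (h.φ k * z) ^ (2 ^ n) = 1 := congrArg Subtype.val hn
      rw [(show Commute (h.φ k) z from h.D_comm (hZD hz) k).mul_pow, ← map_pow] at e
      rw [eq_inv_of_mul_eq_one_left e]
      exact inv_mem (pow_mem hz _)
    have hKE : K = subE := isPGroup_le_card_eight hK fun k hk =>
      ⟨1, one_mem _, by rw [mul_one]; exact hEP ((h.mem_E k).2 hk)⟩
    intro a ha b hb
    obtain ⟨k, z, hz, rfl⟩ := hsplit a (hPC ha)
    obtain ⟨l, w, hw, rfl⟩ := hsplit b (hPC hb)
    have hk : h.φ k ∈ h.E := (h.mem_E k).2 (show k ∈ subE from hKE ▸ (⟨z, hz, ha⟩ : k ∈ K))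
    have hl : h.φ l ∈ h.E := (h.mem_E l).2 (show l ∈ subE from hKE ▸ (⟨w, hw, hb⟩ : l ∈ K))
    have hzM : z ∈ M := by
      have : h.φ k * z ∈ M := by obtain ⟨x, -, e⟩ := ha; rw [← e]; exact x.2
      simpa using mul_mem (inv_mem (hφM k)) this
    have e1 := h.E_comm hk hl
    have e2 := h.D_comm (hZD hz) l
    have e3 := hZc w hw _ (hφM k)
    have e4 := hZc w hw z hzM
    calc h.φ k * z * (h.φ l * w) = h.φ k * (z * h.φ l) * w := by group
      _ = (h.φ k * h.φ l) * (z * w) := by rw [← e2]; group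
      _ = h.φ l * (h.φ k * w) * z := by rw [e1, ← e4]; group
      _ = h.φ l * w * (h.φ k * z) := by rw [← e3]; group
  let ψ : K5 →* M := h.φ.codRestrict M hφM
  have hψ : Function.Injective ψ := fun a b e => h.inj (congrArg Subtype.val e)
  obtain ⟨-, hJ, hone⟩ := recognise_central hperf ψ hψ P (hP h.t_mem_E)
    (fun x hx => Subtype.ext (Subgroup.mem_centralizer_singleton_iff.1 (hPC ⟨x, hx, rfl⟩)))
    (fun a ha b hb => Subtype.ext (hPab _ ⟨a, ha, rfl⟩ _ ⟨b, hb, rfl⟩))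
    (Z.subgroupOf M) (fun z hz => Subgroup.mem_center_iff.2 fun m => Subtype.ext (hZc _ hz _ m.2).symm)
    (fun k hk => hZφ k hk) (fun g hg => by
      obtain ⟨k, z, hz, e⟩ := hsplit (g : G)
        (Subgroup.mem_centralizer_singleton_iff.2 (congrArg Subtype.val hg))
      have hzM : z ∈ M := by
        have : h.φ k * z ∈ M := e ▸ g.2
        simpa using mul_mem (inv_mem (hφM k)) this
      exact ⟨k, ⟨z, hzM⟩, hz, Subtype.ext e⟩)
  have hconj : ∀ x ∈ M, orderOf x = 2 → ∃ m ∈ M, m * h.t * m⁻¹ = x := fun x hx hx2 => by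
    obtain ⟨m, hm⟩ := isConj_iff.1 (hone ⟨x, hx⟩ (by rw [← Subgroup.orderOf_coe]; exact hx2))
    exact ⟨m, m.2, congrArg Subtype.val hm⟩
  refine ⟨M, htM, hJ, hCN, hconj, fun g hg => ?_⟩
  obtain ⟨m, hm, z, hz, e⟩ := decomp hJ hg
  have hmz : m * z = z * m := Subgroup.mem_centralizer_iff.1 hz m hm
  have hzt : z ∈ h.C :=
    Subgroup.mem_centralizer_singleton_iff.2 (Subgroup.mem_centralizer_iff.1 hz _ htM).symm
  have hx2 : (g * h.t * g⁻¹) * (g * h.t * g⁻¹) = 1 := by
    rw [show g * h.t * g⁻¹ * (g * h.t * g⁻¹) = g * (h.t * h.t) * g⁻¹ by group, h.t_sq]; group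
  have hmm : m * m = 1 := by
    rw [e, show m * z * (m * z) = (m * m) * (z * z) by
      rw [mul_assoc, ← mul_assoc z, ← hmz]; group] at hx2
    exact decomp_unique hJ (mul_mem hm hm) (one_mem M) (mul_mem hz hz) (one_mem _) (by rw [hx2, one_mul])
  by_cases hm1 : m = 1
  · exfalso
    rw [hm1, one_mul] at e
    obtain ⟨k, hk⟩ := h.conj_mem_W (g := g)
      (e ▸ Subgroup.mem_centralizer_singleton_iff.1 hzt)
    have h1 := eq_one_of_mem_centralizer hJ ((hk.trans e) ▸ hφM k) hz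
    refine h.t_ne_one ?_
    calc h.t = g⁻¹ * (g * h.t * g⁻¹) * g := by group
      _ = 1 := by rw [e, h1]; group
  · obtain ⟨a, ha, hae⟩ := hconj m hm (orderOf_two hmm hm1)
    have e' : (a⁻¹ * g) * h.t * (a⁻¹ * g)⁻¹ = h.t * z := by
      calc (a⁻¹ * g) * h.t * (a⁻¹ * g)⁻¹ = a⁻¹ * (g * h.t * g⁻¹) * a := by group
        _ = a⁻¹ * (m * (z * a)) := by rw [e]; group
        _ = h.t * z := by rw [← Subgroup.mem_centralizer_iff.1 hz a ha, ← hae]; group
    obtain ⟨k, hk⟩ := h.conj_mem_W (g := a⁻¹ * g) (by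
      rw [e', mul_assoc, Subgroup.mem_centralizer_singleton_iff.1 hzt])
    have hzM : z ∈ M := by
      rw [show z = h.t⁻¹ * h.φ k by rw [hk, e']; group]
      exact mul_mem (inv_mem htM) (hφM k)
    rw [e, eq_one_of_mem_centralizer hJ hzM hz, mul_one]
    exact hm

theorem isoJ1_normalClosure : Cfsg.Spor.IsoJ1 ↥(Subgroup.normalClosure ({h.t} : Set G)) := by
  obtain ⟨M, htM, hJ, hCN, hconj, hlast⟩ := h.exists_J1
  have hn : M.Normal := normal_of_fixed M hJ fun x hx hx2 g hg => by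
    obtain ⟨a, ha, rfl⟩ := hconj x hx hx2
    have e : g * (a * h.t * a⁻¹) * g⁻¹ = (g * a) * h.t * (g * a)⁻¹ := by group
    have hmem := hlast (g * a) (e ▸ hg)
    obtain ⟨b, hb, hbe⟩ := hconj _ hmem ((orderOf_conj _ _).trans h.t_ord)
    have hc : b⁻¹ * (g * a) ∈ h.C := Subgroup.mem_centralizer_singleton_iff.2 (by
      calc b⁻¹ * (g * a) * h.t = b⁻¹ * ((g * a) * h.t * (g * a)⁻¹) * (g * a) := by group
        _ = h.t * (b⁻¹ * (g * a)) := by rw [← hbe]; group)
    rw [show g = b * (b⁻¹ * (g * a)) * a⁻¹ by group]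
    exact mul_mem (mul_mem (Subgroup.le_normalizer hb) (hCN _ hc)) (inv_mem (Subgroup.le_normalizer ha))
  have heq : Subgroup.normalClosure ({h.t} : Set G) = M := by
    haveI := hn
    have hle : Subgroup.normalClosure ({h.t} : Set G) ≤ M :=
      Subgroup.normalClosure_le_normal (Set.singleton_subset_iff.2 htM)
    haveI := isSimple hJ
    rcases (inferInstance : ((Subgroup.normalClosure ({h.t} : Set G)).subgroupOf M).Normal).eq_bot_or_eq_top
      with e | e
    · exfalso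
      have : (⟨h.t, htM⟩ : M) ∈ (Subgroup.normalClosure ({h.t} : Set G)).subgroupOf M :=
        Subgroup.subset_normalClosure rfl
      rw [e, Subgroup.mem_bot] at this
      exact h.t_ne_one (congrArg Subtype.val this)
    · exact le_antisymm hle (Subgroup.subgroupOf_eq_top.1 e)
  rw [heq]
  exact hJ

end Setting

end CfsgLib.WeakClosureJ1
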